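import Mathlib
import Cfsg.Prelude.Def_Blocks
import Cfsg.Prelude.Def_Classical
import Cfsg.Agent.Lib.Helper79.ModP.Defs
import Cfsg.Agent.Lib.Helper5.PSL2Center
set_option autoImplicit false
open Cfsg Cfsg.Agent.Lib.Helper79.ModP
universe u
local notation "PSL2p" p => Matrix.ProjectiveSpecialLinearGroup (Fin 2) (ZMod p)

/-!
# S4504-[C-K] (helper65): a `p'`-kernel `K` with `L/K ≃ PSL₂(p)` is the center of `L`.
-/

namespace Cfsg.Agent.Lib.Helper65.S4504

/-- A group isomorphic to `PSL₂(p)`, `p ≥ 5`, has no normal subgroup of index `p`. -/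
theorem psl_no_index_p {S : Type*} [Group S] {p : ℕ} (hp : p.Prime) (hp5 : 5 ≤ p)
    (e : S ≃* PSL2p p) (N : Subgroup S) [N.Normal] : N.index ≠ p := by
  have := Fact.mk hp
  intro hidx
  have h2 : (2 : ZMod p) ≠ 0 := by
    intro h
    have h3 : ((2 : ℕ) : ZMod p) = 0 := by exact_mod_cast h
    rw [ZMod.natCast_eq_zero_iff] at h3
    have := Nat.le_of_dvd (by norm_num) h3
    omega
  have hc : Subgroup.center S = ⊥ :=
    Cfsg.Agent.Lib.Helper5.center_eq_bot_of_mulEquiv e
      (Cfsg.Agent.Lib.Helper5.center_PSL2_eq_bot h2)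
  have hsimple : IsSimpleGroup (PSL2p p) :=
    Matrix.ProjectiveSpecialLinearGroup.rank_two_simple (by
      rw [Nat.card_zmod]; omega)
  have : Nontrivial (PSL2p p) := hsimple.toNontrivial
  have : Nontrivial S := e.toEquiv.nontrivial
  have : IsSimpleGroup S := IsSimpleGroup.isSimpleGroup_of_surjective e.symm.toMonoidHom e.symm.surjective
  rcases Subgroup.Normal.eq_bot_or_eq_top (inferInstance : N.Normal) with h | h
  · -- `|S| = p`, so `S` is cyclic, hence commutative, but its center is trivial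
    subst h
    rw [Subgroup.index_bot] at hidx
    have hcyc : IsCyclic S := isCyclic_of_prime_card hidx
    have : ∀ a b : S, a * b = b * a := fun a b => IsCyclic.commGroup.mul_comm a b
    have htop : Subgroup.center S = ⊤ := by
      rw [eq_top_iff]; intro z _; rw [Subgroup.mem_center_iff]; intro g; exact this g z
    rw [hc] at htop
    have : Nat.card S = 1 := by
      rw [← Subgroup.card_top (G := S), ← htop, Subgroup.card_bot]
    rw [this] at hidx
    exact hp.one_lt.ne hidx
  · subst h
    rw [Subgroup.index_top] at hidx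
    exact hp.one_lt.ne hidx

theorem kernel_eq_center {L : Type u} [Group L] [Finite L] {p : ℕ} (hp : p.Prime) (hp5 : 5 ≤ p)
    (IH : ∀ (Y : Type u) [Group Y] [Finite Y], Nat.card Y < Nat.card L → p ∣ Nat.card Y →
      ¬ p ^ 2 ∣ Nat.card Y → (∀ H : Subgroup Y, H.Normal → Nat.card H ≠ p) →
      ∀ χ : Y → ℂ, IsCharacter Y χ → (∀ g : Y, χ g = χ 1 → g = 1) → 2 * charDegree χ + 1 = p →
        Nonempty (Y ⧸ Subgroup.center Y ≃* PSL2p p))
    (P : Sylow p L) (hP : Nat.card P = p)
    (hgen : Subgroup.normalClosure ((P : Subgroup L) : Set L) = ⊤)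
    (ζ : L → ℂ) (hζ : IsCharacter L ζ) (hfaith : ∀ g : L, ζ g = ζ 1 → g = 1)
    (hdeg : 2 * charDegree ζ + 1 = p)
    (K : Subgroup L) [K.Normal] (hK : ¬ p ∣ Nat.card K) (e : L ⧸ K ≃* PSL2p p) :
    K = Subgroup.center L := by
  have := Fact.mk hp
  have h2 : (2 : ZMod p) ≠ 0 := by
    intro h
    have h3 : ((2 : ℕ) : ZMod p) = 0 := by exact_mod_cast h
    rw [ZMod.natCast_eq_zero_iff] at h3
    have := Nat.le_of_dvd (by norm_num) h3
    omega
  -- `Z(L) ≤ K`
  have hZK : Subgroup.center L ≤ K := by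
    intro z hz
    have hc : Subgroup.center (L ⧸ K) = ⊥ :=
      Cfsg.Agent.Lib.Helper5.center_eq_bot_of_mulEquiv e
        (Cfsg.Agent.Lib.Helper5.center_PSL2_eq_bot h2)
    have hmem : (QuotientGroup.mk z : L ⧸ K) ∈ Subgroup.center (L ⧸ K) := by
      rw [Subgroup.mem_center_iff]
      intro q
      induction q using QuotientGroup.induction_on with
      | H g =>
        rw [← QuotientGroup.mk_mul, ← QuotientGroup.mk_mul, Subgroup.mem_center_iff.mp hz g]
    rw [hc, Subgroup.mem_bot, QuotientGroup.eq_one_iff] at hmem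
    exact hmem
  -- `K ⊓ P = ⊥`
  have hcop : Nat.Coprime (Nat.card K) (Nat.card (P : Subgroup L)) := by
    rw [hP]; exact (Nat.Coprime.symm ((Nat.Prime.coprime_iff_not_dvd hp).mpr hK))
  have hKP : K ⊓ (P : Subgroup L) = ⊥ := (Subgroup.disjoint_of_coprime_natCard hcop).eq_bot
  -- it suffices that `K` normalizes `P`
  suffices hnorm : ∀ k ∈ K, ∀ y ∈ (P : Subgroup L), k * y * k⁻¹ ∈ (P : Subgroup L) by
    refine le_antisymm ?_ hZK
    have hPc : (P : Subgroup L) ≤ Subgroup.centralizer (K : Set L) := by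
      intro y hy
      rw [Subgroup.mem_centralizer_iff]
      intro k hk
      have h1 : k * y * k⁻¹ * y⁻¹ ∈ K ⊓ (P : Subgroup L) := by
        refine Subgroup.mem_inf.mpr ⟨?_, (P : Subgroup L).mul_mem (hnorm k hk y hy)
          ((P : Subgroup L).inv_mem hy)⟩
        have : k * y * k⁻¹ * y⁻¹ = k * (y * k⁻¹ * y⁻¹) := by group
        rw [this]
        exact K.mul_mem hk ((inferInstance : K.Normal).conj_mem k⁻¹ (K.inv_mem hk) y)
      rw [hKP, Subgroup.mem_bot] at h1
      have : k * y = (k * y * k⁻¹ * y⁻¹) * (y * k) := by group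
      rw [this, h1, one_mul]
    have htop : Subgroup.centralizer (K : Set L) = ⊤ := by
      rw [eq_top_iff, ← hgen]
      exact Subgroup.normalClosure_le_normal hPc
    exact Subgroup.centralizer_eq_top_iff_subset.mp htop
  -- the subgroup `Y = K ⊔ P`
  have hKY : K ≤ K ⊔ (P : Subgroup L) := le_sup_left
  have hPY : (P : Subgroup L) ≤ K ⊔ (P : Subgroup L) := le_sup_right
  have hrel : K.relIndex (K ⊔ (P : Subgroup L)) = p := by
    rw [Subgroup.relIndex_sup_left, ← Subgroup.inf_relIndex_right, hKP, Subgroup.relIndex_bot_left, hP]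
  have hcardY : Nat.card (K ⊔ (P : Subgroup L) : Subgroup L) = Nat.card K * p := by
    have := Subgroup.card_mul_index (K.subgroupOf (K ⊔ (P : Subgroup L)))
    rw [← Subgroup.relIndex, hrel, Nat.card_congr (Subgroup.subgroupOfEquivOfLe hKY).toEquiv] at this
    exact this.symm
  have hp2Y : ¬ p ^ 2 ∣ Nat.card (K ⊔ (P : Subgroup L) : Subgroup L) := by
    rw [hcardY, pow_two]
    intro h
    exact hK (Nat.dvd_of_mul_dvd_mul_right hp.pos h)
  have hpY : p ∣ Nat.card (K ⊔ (P : Subgroup L) : Subgroup L) := by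
    rw [hcardY]; exact dvd_mul_left _ _
  -- `p ∣ |PSL₂(p)|`
  have hpPSL : p ∣ Nat.card (PSL2p p) := by
    have h1 : Nat.card L = Nat.card (L ⧸ K) * Nat.card K := Subgroup.card_eq_card_quotient_mul_card_subgroup K
    have h2 : p ∣ Nat.card L := by
      rw [← hP]; exact Subgroup.card_subgroup_dvd_card _
    rw [h1] at h2
    rcases (Nat.Prime.dvd_mul hp).mp h2 with h | h
    · rwa [Nat.card_congr e.toEquiv] at h
    · exact absurd h hK
  by_cases hex : ∃ H : Subgroup (K ⊔ (P : Subgroup L) : Subgroup L), H.Normal ∧ Nat.card H = p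
  · -- `P` is normal in `Y`
    obtain ⟨H, hHn, hH⟩ := hex
    have hHp : IsPGroup p H := IsPGroup.of_card (n := 1) (by rw [hH, pow_one])
    obtain ⟨S, hHS⟩ := hHp.exists_le_sylow
    have hScard : Nat.card S = p := by
      obtain ⟨k, hk⟩ := IsPGroup.exists_card_eq S.isPGroup'
      have hdvd : p ^ k ∣ Nat.card K * p := by
        rw [← hk, ← hcardY]; exact Subgroup.card_subgroup_dvd_card _
      have hle : p ≤ p ^ k := by
        have := Subgroup.card_le_of_le hHS
        rw [hH, hk] at this
        exact this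
      have hk1 : k ≤ 1 := by
        by_contra hk2
        push Not at hk2
        have : p ^ 2 ∣ Nat.card K * p := (pow_dvd_pow p hk2).trans hdvd
        rw [pow_two] at this
        exact hK (Nat.dvd_of_mul_dvd_mul_right hp.pos this)
      have hk0 : k ≠ 0 := by
        rintro rfl
        rw [pow_zero] at hle
        exact absurd hle (by have := hp.one_lt; omega)
      have : k = 1 := by omega
      rw [hk, this, pow_one]
    have hSH : (S : Subgroup (K ⊔ (P : Subgroup L) : Subgroup L)) = H :=
      (Subgroup.eq_of_le_of_card_ge hHS (by rw [hScard, hH])).symm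
    have hSn : (S : Subgroup (K ⊔ (P : Subgroup L) : Subgroup L)).Normal := by rw [hSH]; exact hHn
    have := Sylow.unique_of_normal S hSn
    have hP'p : IsPGroup p ((P : Subgroup L).subgroupOf (K ⊔ (P : Subgroup L))) :=
      IsPGroup.comap_subtype P.isPGroup'
    obtain ⟨S', hS'⟩ := hP'p.exists_le_sylow
    have hS'S : S' = S := Subsingleton.elim _ _
    rw [hS'S] at hS'
    have hP'card : Nat.card ((P : Subgroup L).subgroupOf (K ⊔ (P : Subgroup L))) = p := by
      rw [Nat.card_congr (Subgroup.subgroupOfEquivOfLe hPY).toEquiv]; exact hP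
    have hP'S : (P : Subgroup L).subgroupOf (K ⊔ (P : Subgroup L)) = S :=
      Subgroup.eq_of_le_of_card_ge hS' (by rw [hScard, hP'card])
    have hP'n : ((P : Subgroup L).subgroupOf (K ⊔ (P : Subgroup L))).Normal := hP'S ▸ hSn
    intro k hk y hy
    have := hP'n.conj_mem ⟨y, hPY hy⟩ (Subgroup.mem_subgroupOf.mpr hy) ⟨k, hKY hk⟩
    rw [Subgroup.mem_subgroupOf] at this
    simpa using this
  · -- apply the induction hypothesis to `Y`
    exfalso
    push Not at hex
    have hlt : Nat.card (K ⊔ (P : Subgroup L) : Subgroup L) < Nat.card L := by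
      rcases (Subgroup.card_le_card_group (K ⊔ (P : Subgroup L))).lt_or_eq with h | h
      · exact h
      · exfalso
        have htop : K ⊔ (P : Subgroup L) = ⊤ := Subgroup.card_eq_iff_eq_top _ |>.mp h
        have hidx : K.index = p := by
          rw [← Subgroup.relIndex_top_right, ← htop, hrel]
        have hbot : (⊥ : Subgroup (L ⧸ K)).index = p := by
          rw [Subgroup.index_bot]; exact hidx
        exact psl_no_index_p hp hp5 e ⊥ hbot
    have hζY : IsCharacter (K ⊔ (P : Subgroup L) : Subgroup L) (fun y => ζ y) := by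
      obtain ⟨n, ρ, hρ⟩ := hζ
      refine ⟨n, ρ.comp (K ⊔ (P : Subgroup L)).subtype, ?_⟩
      ext y
      rw [← hρ]
      rfl
    obtain ⟨e'⟩ := IH (K ⊔ (P : Subgroup L) : Subgroup L) hlt hpY hp2Y
      (fun H hHn hH => hex H hHn hH) (fun y => ζ y) hζY
      (fun g hg => Subtype.ext (hfaith g hg)) hdeg
    -- `f : Y →* PSL₂(p)` surjective with kernel `Z(Y)`
    set Y : Subgroup L := K ⊔ (P : Subgroup L) with hY
    let f : Y →* PSL2p p := e'.toMonoidHom.comp (QuotientGroup.mk' (Subgroup.center Y))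
    have hfsurj : Function.Surjective f :=
      e'.surjective.comp (QuotientGroup.mk'_surjective _)
    have hfker : f.ker = Subgroup.center Y := by
      ext y
      rw [MonoidHom.mem_ker]
      change e' (QuotientGroup.mk y) = 1 ↔ _
      rw [MulEquiv.map_eq_one_iff, QuotientGroup.eq_one_iff]
    have hK'n : (K.subgroupOf Y).Normal := inferInstance
    have hMidx : (K.subgroupOf Y ⊔ Subgroup.center Y).index ∣ p := by
      have := Subgroup.index_dvd_of_le (le_sup_left : K.subgroupOf Y ≤ K.subgroupOf Y ⊔ Subgroup.center Y)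
      rwa [← Subgroup.relIndex, hrel] at this
    have hMmap : ((K.subgroupOf Y ⊔ Subgroup.center Y).map f).index =
        (K.subgroupOf Y ⊔ Subgroup.center Y).index :=
      Subgroup.index_map_eq _ hfsurj (by rw [hfker]; exact le_sup_right)
    have hMn : ((K.subgroupOf Y ⊔ Subgroup.center Y).map f).Normal :=
      Subgroup.Normal.map inferInstance f hfsurj
    rcases (Nat.dvd_prime hp).mp hMidx with h1 | h1
    · -- `Y = K Z(Y)`, so `PSL₂(p)` is an image of `K`
      have hMtop : K.subgroupOf Y ⊔ Subgroup.center Y = ⊤ := Subgroup.index_eq_one.mp h1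
      have hKmap : (K.subgroupOf Y).map f = ⊤ := by
        have h3 : (K.subgroupOf Y ⊔ Subgroup.center Y).map f = ⊤ := by
          rw [hMtop, ← MonoidHom.range_eq_map]; exact MonoidHom.range_eq_top.mpr hfsurj
        rw [Subgroup.map_sup] at h3
        have h4 : (Subgroup.center Y).map f = ⊥ := by
          rw [← hfker]; exact (Subgroup.map_eq_bot_iff _).mpr le_rfl
        rwa [h4, sup_bot_eq] at h3
      have hdvd : Nat.card (PSL2p p) ∣ Nat.card K := by
        have h5 : Nat.card ((K.subgroupOf Y).map f) ∣ Nat.card (K.subgroupOf Y) :=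
          Subgroup.card_map_dvd _ _
        rw [hKmap, Subgroup.card_top] at h5
        rwa [Nat.card_congr (Subgroup.subgroupOfEquivOfLe hKY).toEquiv] at h5
      exact hK (hpPSL.trans hdvd)
    · exact psl_no_index_p hp hp5 (MulEquiv.refl _) _ (hMmap.trans h1)

end Cfsg.Agent.Lib.Helper65.S4504
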