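import Mathlib
import Cfsg.Prelude.Def_Blocks
import Cfsg.Prelude.Def_Classical
import Cfsg.Agent.Lib.Helper79.ModP.Defs
set_option autoImplicit false
open Cfsg Cfsg.Agent.Lib.Helper79.ModP
universe u

/-!
# S4504-[C-NAB] (helper65): `N_G(P)/P` is abelian when `|P| = p` and `C_G(P) = P Z(G)`.
-/

namespace Cfsg.Agent.Lib.Helper65.S4504

theorem normalizer_mod_abelian {G : Type u} [Group G] [Finite G] {p : ℕ} [Fact p.Prime]
    (P : Sylow p G) (hP : Nat.card P = p)
    (hA1 : ∀ c ∈ Subgroup.centralizer ((P : Subgroup G) : Set G),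
        ∃ y ∈ (P : Subgroup G), ∃ z ∈ Subgroup.center G, c = y * z) :
    ∀ a b : G, a ∈ Subgroup.normalizer ((P : Subgroup G) : Set G) →
      b ∈ Subgroup.normalizer ((P : Subgroup G) : Set G) → a * b * a⁻¹ * b⁻¹ ∈ (P : Subgroup G) := by
  intro a b ha hb
  have hPN : (P : Subgroup G) ≤ Subgroup.normalizer ((P : Subgroup G) : Set G) :=
    Subgroup.le_normalizer
  -- `P'` is `P` inside `N`, normal, cyclic of order `p`
  have hcardP' : Nat.card ((P : Subgroup G).subgroupOf
      (Subgroup.normalizer ((P : Subgroup G) : Set G))) = p := by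
    rw [Nat.card_congr (Subgroup.subgroupOfEquivOfLe hPN).toEquiv]; exact hP
  have hcyc : IsCyclic ((P : Subgroup G).subgroupOf
      (Subgroup.normalizer ((P : Subgroup G) : Set G))) :=
    isCyclic_of_prime_card hcardP'
  have : Fact (Nat.card ((P : Subgroup G).subgroupOf
      (Subgroup.normalizer ((P : Subgroup G) : Set G)))).Prime := by
    rw [hcardP']; infer_instance
  have hcycAut : IsCyclic (MulAut ((P : Subgroup G).subgroupOf
      (Subgroup.normalizer ((P : Subgroup G) : Set G)))) :=
    isCyclic_of_surjective (IsCyclic.mulAutMulEquiv _).symm (IsCyclic.mulAutMulEquiv _).symm.surjective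
  -- the conjugation action of `N` on `P'`, trivial on `P'`
  have hkerφ : ∀ x ∈ (P : Subgroup G).subgroupOf (Subgroup.normalizer ((P : Subgroup G) : Set G)),
      (MulAut.conjNormal x : MulAut ((P : Subgroup G).subgroupOf
        (Subgroup.normalizer ((P : Subgroup G) : Set G)))) = 1 := by
    intro x hx
    ext y
    rw [MulAut.conjNormal_apply, MulAut.one_apply]
    obtain ⟨g, hg⟩ := hcyc.exists_generator
    have hcomm : ∀ u v : (P : Subgroup G).subgroupOf
        (Subgroup.normalizer ((P : Subgroup G) : Set G)), u * v = v * u := by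
      intro u v
      exact (IsCyclic.commGroup.mul_comm u v)
    have := hcomm ⟨x, hx⟩ y
    have h2 : (x : Subgroup.normalizer ((P : Subgroup G) : Set G)) * y = y * x := by
      have := congrArg Subtype.val this
      simpa using this
    rw [h2, mul_inv_cancel_right]
  let ψ := QuotientGroup.lift ((P : Subgroup G).subgroupOf
      (Subgroup.normalizer ((P : Subgroup G) : Set G)))
    (MulAut.conjNormal : Subgroup.normalizer ((P : Subgroup G) : Set G) →* MulAut ((P : Subgroup G).subgroupOf
      (Subgroup.normalizer ((P : Subgroup G) : Set G)))) hkerφ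
  have hψker : ψ.ker ≤ Subgroup.center _ := by
    intro q hq
    induction q using QuotientGroup.induction_on with
    | H n =>
      rw [MonoidHom.mem_ker] at hq
      change (MulAut.conjNormal n : MulAut ((P : Subgroup G).subgroupOf
        (Subgroup.normalizer ((P : Subgroup G) : Set G)))) = 1 at hq
      -- `n` centralizes `P`
      have hn : (n : G) ∈ Subgroup.centralizer ((P : Subgroup G) : Set G) := by
        rw [Subgroup.mem_centralizer_iff]
        intro y hy
        have h1 := DFunLike.congr_fun hq ⟨⟨y, hPN hy⟩, Subgroup.mem_subgroupOf.mpr hy⟩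
        rw [MulAut.one_apply] at h1
        have h2 := congrArg (fun t : (P : Subgroup G).subgroupOf
          (Subgroup.normalizer ((P : Subgroup G) : Set G)) =>
            ((t : Subgroup.normalizer ((P : Subgroup G) : Set G)) : G)) h1
        simp only [MulAut.conjNormal_apply, Subgroup.coe_mul, Subgroup.coe_inv] at h2
        calc y * (n : G) = ((n : G) * y * (n : G)⁻¹) * (n : G) := by rw [h2]
          _ = (n : G) * y := by group
      obtain ⟨y, hy, z, hz, hnz⟩ := hA1 _ hn
      have hzN : z ∈ Subgroup.normalizer ((P : Subgroup G) : Set G) :=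
        Subgroup.center_le_normalizer _ hz
      have hmk : (QuotientGroup.mk n : _ ⧸ (P : Subgroup G).subgroupOf
          (Subgroup.normalizer ((P : Subgroup G) : Set G))) = QuotientGroup.mk ⟨z, hzN⟩ := by
        rw [QuotientGroup.eq]
        rw [Subgroup.mem_subgroupOf]
        simp only [Subgroup.coe_mul, Subgroup.coe_inv]
        rw [hnz]
        have : (y * z)⁻¹ * z = y⁻¹ := by
          rw [mul_inv_rev, mul_assoc, Subgroup.mem_center_iff.mp hz y⁻¹, ← mul_assoc,
            inv_mul_cancel, one_mul]
        rw [this]; exact inv_mem hy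
      rw [hmk, Subgroup.mem_center_iff]
      intro m
      induction m using QuotientGroup.induction_on with
      | H m =>
        rw [← QuotientGroup.mk_mul, ← QuotientGroup.mk_mul]
        congr 1
        apply Subtype.ext
        simp only [Subgroup.coe_mul]
        exact Subgroup.mem_center_iff.mp hz (m : G)
  have hcomm := (ψ.isMulCommutative_of_isCyclic_of_ker_le_center hψker).is_comm.comm
    (QuotientGroup.mk ⟨a, ha⟩) (QuotientGroup.mk ⟨b, hb⟩)
  rw [← QuotientGroup.mk_mul, ← QuotientGroup.mk_mul, QuotientGroup.eq] at hcomm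
  rw [Subgroup.mem_subgroupOf] at hcomm
  simp only [Subgroup.coe_mul, Subgroup.coe_inv] at hcomm
  -- hcomm : (a * b)⁻¹ * (b * a) ∈ P ; we need a * b * a⁻¹ * b⁻¹ ∈ P
  have h1 : a * b * a⁻¹ * b⁻¹ = (a * b) * ((a * b)⁻¹ * (b * a))⁻¹ * (a * b)⁻¹ := by group
  rw [h1]
  have habN : a * b ∈ Subgroup.normalizer ((P : Subgroup G) : Set G) := mul_mem ha hb
  exact (Subgroup.mem_normalizer_iff.mp habN _).mp (inv_mem hcomm)

end Cfsg.Agent.Lib.Helper65.S4504
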