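import Mathlib
import Cfsg.Prelude.Def_Blocks
import Cfsg.Prelude.Def_Classical
import Cfsg.Agent.Lib.Helper79.ModP.Defs
import Cfsg.Agent.Lib.Helper14.PSL2Borel
import Cfsg.Agent.Lib.Helper5.PSL2Small
set_option autoImplicit false
open Cfsg Cfsg.Agent.Lib.Helper79.ModP
universe u
local notation "PSL2p" p => Matrix.ProjectiveSpecialLinearGroup (Fin 2) (ZMod p)

/-!
# S4504-[C-SYLCOUNT] (helper65): if `L / Z(L) ≃ PSL₂(p)` and `|L|_p = p` then `L` has `p + 1` Sylow
`p`-subgroups.
-/

namespace Cfsg.Agent.Lib.Helper65.S4504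

/-- `PSL₂(p)` has exactly `p + 1` Sylow `p`-subgroups: the index of a Sylow normalizer. -/
theorem psl_index_normalizer_sylow {p : ℕ} [Fact p.Prime] (hp5 : 5 ≤ p)
    (Q : Sylow p (PSL2p p)) :
    (Subgroup.normalizer ((Q : Subgroup (PSL2p p)) : Set (PSL2p p))).index = p + 1 := by
  have hp : p.Prime := Fact.out
  have h2 : (2 : ZMod p) ≠ 0 := by
    intro h
    have h3 : ((2 : ℕ) : ZMod p) = 0 := by exact_mod_cast h
    rw [ZMod.natCast_eq_zero_iff] at h3
    have := Nat.le_of_dvd (by norm_num) h3
    omega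
  have hc := Cfsg.Agent.Lib.Helper5.card_center_SL2_of_two_ne_zero h2
  have hG := Cfsg.Agent.Lib.Helper5.card_PSL2_mul (F := ZMod p)
  have hN := Cfsg.Agent.Lib.Helper14.card_normalizer_sylow_mul (F := ZMod p) p Q
  rw [hc, ZMod.card] at hG hN
  have hidx := (Subgroup.normalizer ((Q : Subgroup (PSL2p p)) : Set (PSL2p p))).card_mul_index
  set n := Nat.card (Subgroup.normalizer ((Q : Subgroup (PSL2p p)) : Set (PSL2p p))) with hn
  set i := (Subgroup.normalizer ((Q : Subgroup (PSL2p p)) : Set (PSL2p p))).index with hi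
  -- n * 2 = (p-1) p ; |G| * 2 = p (p^2-1); n * i = |G|
  obtain ⟨m, rfl⟩ : ∃ m, p = m + 1 := ⟨p - 1, by omega⟩
  have e1 : (m + 1) ^ 2 - 1 = m * (m + 2) := by
    have : (m + 1) ^ 2 = m * (m + 2) + 1 := by ring
    omega
  have e2 : m + 1 - 1 = m := by omega
  rw [e1] at hG
  rw [e2] at hN
  have h3 : (m * (m + 1)) * i = (m * (m + 1)) * (m + 1 + 1) := by
    calc (m * (m + 1)) * i = (n * 2) * i := by rw [hN]
      _ = (n * i) * 2 := by ring
      _ = Nat.card (PSL2p (m + 1)) * 2 := by rw [hidx]
      _ = (m + 1) * (m * (m + 2)) := hG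
      _ = (m * (m + 1)) * (m + 1 + 1) := by ring
  have hpos : 0 < m * (m + 1) := by
    have : 4 ≤ m := by omega
    positivity
  exact Nat.eq_of_mul_eq_mul_left hpos h3

theorem card_sylow_of_psl {L : Type u} [Group L] [Finite L] {p : ℕ} [Fact p.Prime] (hp5 : 5 ≤ p)
    (P : Sylow p L) (hP : Nat.card P = p)
    (e : L ⧸ Subgroup.center L ≃* PSL2p p) :
    Nat.card (Sylow p L) = p + 1 := by
  have hp : p.Prime := Fact.out
  -- the surjection `f : L → PSL₂(p)` with kernel `Z(L)`
  let f : L →* PSL2p p := e.toMonoidHom.comp (QuotientGroup.mk' (Subgroup.center L))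
  have hfsurj : Function.Surjective f :=
    e.surjective.comp (QuotientGroup.mk'_surjective _)
  have hfker : f.ker = Subgroup.center L := by
    ext y
    rw [MonoidHom.mem_ker]
    change e (QuotientGroup.mk y) = 1 ↔ _
    rw [MulEquiv.map_eq_one_iff, QuotientGroup.eq_one_iff]
  -- `p ∤ |Z(L)|`
  have hpZ : ¬ p ∣ Nat.card (Subgroup.center L) := by
    intro hdvd
    have h1 : Nat.card L = Nat.card (L ⧸ Subgroup.center L) * Nat.card (Subgroup.center L) :=
      Subgroup.card_eq_card_quotient_mul_card_subgroup _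
    have h2 : p ∣ Nat.card (L ⧸ Subgroup.center L) := by
      rw [Nat.card_congr e.toEquiv]
      have hQ := (P.mapSurjective hfsurj)
      have := Cfsg.Agent.Lib.Helper5.card_PSL2_mul (F := ZMod p)
      have h2' : (2 : ZMod p) ≠ 0 := by
        intro h
        have h3 : ((2 : ℕ) : ZMod p) = 0 := by exact_mod_cast h
        rw [ZMod.natCast_eq_zero_iff] at h3
        have := Nat.le_of_dvd (by norm_num) h3
        omega
      rw [Cfsg.Agent.Lib.Helper5.card_center_SL2_of_two_ne_zero h2', ZMod.card] at this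
      have h4 : p ∣ Nat.card (PSL2p p) * 2 := by rw [this]; exact dvd_mul_right _ _
      rcases (Nat.Prime.dvd_mul hp).mp h4 with h | h
      · exact h
      · have := Nat.le_of_dvd (by norm_num) h
        omega
    have h3 : p ^ 2 ∣ Nat.card L := by
      rw [h1, pow_two]; exact Nat.mul_dvd_mul h2 hdvd
    have h4 := P.pow_dvd_card_of_pow_dvd_card h3
    rw [hP] at h4
    have h5 := Nat.le_of_dvd hp.pos h4
    have : p < p ^ 2 := by
      rw [pow_two]; exact lt_mul_self hp.one_lt
    omega
  -- the normalizer of `P ⊔ Z(L)` is the normalizer of `P`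
  have hnorm : Subgroup.normalizer (((P : Subgroup L) ⊔ Subgroup.center L : Subgroup L) : Set L) =
      Subgroup.normalizer ((P : Subgroup L) : Set L) := by
    have key : ∀ g : L, g ∈ Subgroup.normalizer
        (((P : Subgroup L) ⊔ Subgroup.center L : Subgroup L) : Set L) →
        ∀ y ∈ (P : Subgroup L), g * y * g⁻¹ ∈ (P : Subgroup L) := by
      intro g hg y hy
      have h1 : g * y * g⁻¹ ∈ (P : Subgroup L) ⊔ Subgroup.center L :=
        (Subgroup.mem_normalizer_iff.mp hg y).mp (Subgroup.mem_sup_left hy)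
      have h1' : g * y * g⁻¹ ∈ (((P : Subgroup L) ⊔ Subgroup.center L : Subgroup L) : Set L) := h1
      rw [Subgroup.mul_normal, Set.mem_mul] at h1'
      obtain ⟨y', hy', z, hz, hyz⟩ := h1'
      have hyp : y ^ p = 1 := by
        have := pow_card_eq_one' (G := (P : Subgroup L)) (x := ⟨y, hy⟩)
        rw [hP] at this
        exact congrArg Subtype.val this
      have hy'p : y' ^ p = 1 := by
        have := pow_card_eq_one' (G := (P : Subgroup L)) (x := ⟨y', hy'⟩)
        rw [hP] at this
        exact congrArg Subtype.val this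
      have hzp : z ^ p = 1 := by
        have h2 : (y' * z) ^ p = 1 := by
          rw [hyz, conj_pow, hyp]; group
        have hcomm : Commute y' z := Subgroup.mem_center_iff.mp hz y'
        rw [hcomm.mul_pow, hy'p, one_mul] at h2
        exact h2
      have hz1 : z = 1 := by
        have h3 : orderOf z ∣ p := orderOf_dvd_of_pow_eq_one hzp
        have h4 : orderOf z ∣ Nat.card (Subgroup.center L) := by
          have := orderOf_dvd_natCard (⟨z, hz⟩ : Subgroup.center L)
          rwa [Subgroup.orderOf_mk] at this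
        rcases (Nat.dvd_prime hp).mp h3 with h | h
        · exact orderOf_eq_one_iff.mp h
        · exact absurd (h ▸ h4) hpZ
      rw [← hyz, hz1, mul_one]
      exact hy'
    apply le_antisymm
    · intro g hg
      rw [Subgroup.mem_normalizer_iff]
      intro y
      constructor
      · exact key g hg y
      · intro hy
        have := key g⁻¹ (inv_mem hg) _ hy
        rw [inv_inv] at this
        have h2 : g⁻¹ * (g * y * g⁻¹) * g = y := by group
        rwa [h2] at this
    · intro g hg
      rw [Subgroup.mem_normalizer_iff]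
      have hgP : ∀ y, y ∈ (P : Subgroup L) ↔ g * y * g⁻¹ ∈ (P : Subgroup L) :=
        Subgroup.mem_normalizer_iff.mp hg
      have hfwd : ∀ g : L, (∀ y, y ∈ (P : Subgroup L) ↔ g * y * g⁻¹ ∈ (P : Subgroup L)) →
          ∀ x ∈ (P : Subgroup L) ⊔ Subgroup.center L,
            g * x * g⁻¹ ∈ (P : Subgroup L) ⊔ Subgroup.center L := by
        intro g hgP x hx
        have hx' : x ∈ (((P : Subgroup L) ⊔ Subgroup.center L : Subgroup L) : Set L) := hx
        rw [Subgroup.mul_normal, Set.mem_mul] at hx'
        obtain ⟨y, hy, z, hz, rfl⟩ := hx'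
        have : g * (y * z) * g⁻¹ = (g * y * g⁻¹) * (g * z * g⁻¹) := by group
        rw [this]
        exact mul_mem (Subgroup.mem_sup_left ((hgP y).mp hy))
          (Subgroup.mem_sup_right ((inferInstance : (Subgroup.center L).Normal).conj_mem z hz g))
      intro x
      constructor
      · exact hfwd g hgP x
      · intro hx
        have hg' : ∀ y, y ∈ (P : Subgroup L) ↔ g⁻¹ * y * g⁻¹⁻¹ ∈ (P : Subgroup L) :=
          Subgroup.mem_normalizer_iff.mp (inv_mem hg)
        have := hfwd g⁻¹ hg' _ hx
        have h2 : g⁻¹ * (g * x * g⁻¹) * g⁻¹⁻¹ = x := by group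
        rwa [h2] at this
  -- count
  have hcomap : (Subgroup.normalizer (((P.mapSurjective hfsurj : Sylow p (PSL2p p)) :
      Subgroup (PSL2p p)) : Set (PSL2p p))).comap f =
      Subgroup.normalizer ((P : Subgroup L) : Set L) := by
    rw [Subgroup.comap_normalizer_eq_of_surjective _ hfsurj, Sylow.coe_mapSurjective,
      Subgroup.comap_map_eq, hfker, hnorm]
  rw [Sylow.card_eq_index_normalizer P]
  change (Subgroup.normalizer ((P : Subgroup L) : Set L)).index = p + 1
  rw [← hcomap, Subgroup.index_comap_of_surjective _ hfsurj]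
  exact psl_index_normalizer_sylow hp5 _

end Cfsg.Agent.Lib.Helper65.S4504
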